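import Cfsg.Agent.Lib.Golay.Basic

/-! The rank-24 lattice: coordinates, congruences, index and generation by minimal vectors. -/

set_option autoImplicit false

namespace Cfsg.Agent.Leech

open Cfsg Cfsg.Agent.Golay

/-- The lift of a word to integers. -/
def lift (w : GolayPt → ZMod 2) (i : GolayPt) : ℤ := if w i = 0 then 0 else 1

/-- The standard shape of a lattice vector. -/
def Shape (x : GolayPt → ℤ) : Prop :=
  ∃ m : ℤ, ∃ w ∈ golayCode, (∀ i, x i ≡ m + 2 * lift w i [ZMOD 4]) ∧ ∑ i, x i ≡ 4 * m [ZMOD 8]

theorem one_mem_code : (1 : GolayPt → ZMod 2) ∈ golayCode := Submodule.subset_span (Or.inr rfl)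

theorem weight_facts : codeList.all (fun m => popc m % 4 == 0) = true := by decide +kernel

theorem sum_lift (w : GolayPt → ZMod 2) : ∑ i, lift w i = (hammingNorm w : ℤ) := by
  have e : ∀ i, lift w i = if w i ≠ 0 then 1 else 0 := fun i => by
    rw [lift]; by_cases h : w i = 0 <;> simp [h]
  rw [Finset.sum_congr rfl (fun i _ => e i), Finset.sum_boole, hammingNorm]

theorem four_dvd_weight {w : GolayPt → ZMod 2} (hw : w ∈ golayCode) : (4 : ℤ) ∣ ∑ i, lift w i := by
  rw [sum_lift, hammingNorm_eq]
  have := List.all_eq_true.mp weight_facts _ (mask_mem_codeList hw)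
  simp only [beq_iff_eq] at this
  omega

theorem eight_le_weight {w : GolayPt → ZMod 2} (hw : w ∈ golayCode) (h : w ≠ 0) :
    (8 : ℤ) ≤ ∑ i, lift w i := by
  have := List.all_eq_true.mp weights_ok _ (mask_mem_codeList hw)
  rw [sum_lift, hammingNorm_eq]
  have h0 : popc (mask w) ≠ 0 := by
    rw [← hammingNorm_eq]; exact hammingNorm_ne_zero_iff.mpr h
  simp only [List.contains_eq_mem, List.mem_cons, List.not_mem_nil, or_false, decide_eq_true_eq] at this
  omega

theorem lift_add (v w : GolayPt → ZMod 2) (i : GolayPt) :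
    lift (v + w) i = lift v i + lift w i - 2 * (lift v i * lift w i) := by
  have key : ∀ a b : ZMod 2, (if a + b = 0 then (0 : ℤ) else 1) =
      (if a = 0 then (0 : ℤ) else 1) + (if b = 0 then 0 else 1) -
        2 * ((if a = 0 then (0 : ℤ) else 1) * if b = 0 then 0 else 1) := by decide
  exact key (v i) (w i)

theorem two_dvd_inter {v w : GolayPt → ZMod 2} (hv : v ∈ golayCode) (hw : w ∈ golayCode) :
    (2 : ℤ) ∣ ∑ i, lift v i * lift w i := by
  have h1 := four_dvd_weight hv
  have h2 := four_dvd_weight hw
  have h3 := four_dvd_weight (Submodule.add_mem _ hv hw)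
  simp only [lift_add, Finset.sum_sub_distrib, Finset.sum_add_distrib, ← Finset.mul_sum] at h3
  omega

theorem filter_mem_supports {w : GolayPt → ZMod 2} (hw : w ∈ golayCode) (p : GolayPt → Prop)
    [DecidablePred p] (h : ∀ i, p i ↔ w i ≠ 0) :
    Finset.univ.filter p ∈ supports (golayCode : Set (GolayPt → ZMod 2)) :=
  ⟨w, hw, by ext i; simp [support₂, h]⟩

theorem mem_leechSet_iff (x : GolayPt → ℤ) : x ∈ leechSet ↔ Shape x := by
  constructor
  · rintro ⟨m, hm, hsum, hk⟩
    obtain ⟨w, hw, he⟩ := hk (m + 2)
    refine ⟨m, w, hw, fun i => ?_, hsum⟩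
    have h := hm i
    have he' : w i ≠ 0 ↔ x i ≡ m + 2 [ZMOD 4] := by
      have := Finset.ext_iff.mp he i
      simpa [support₂] using this
    by_cases hwi : w i = 0
    · have : ¬ x i ≡ m + 2 [ZMOD 4] := fun h' => he'.mpr h' hwi
      simp only [lift, hwi, if_true, mul_zero, add_zero]
      unfold Int.ModEq at *
      omega
    · simpa [lift, hwi] using he'.mp hwi
  · rintro ⟨m, w, hw, hx, hsum⟩
    refine ⟨m, fun i => ?_, hsum, fun k => ?_⟩
    · have := hx i
      unfold Int.ModEq at *
      omega
    · by_cases h0 : k ≡ m [ZMOD 4]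
      · refine filter_mem_supports (Submodule.add_mem _ hw one_mem_code) _ fun i => ?_
        have := hx i
        by_cases hwi : w i = 0
        · simp only [lift, hwi, if_true] at this
          simp only [Pi.add_apply, hwi, Pi.one_apply, zero_add, ne_eq, one_ne_zero, not_false_eq_true, iff_true]
          unfold Int.ModEq at *
          omega
        · simp only [lift, hwi, if_false] at this
          have h1 : w i + 1 = 0 := by revert hwi; generalize w i = a; revert a; decide
          simp only [Pi.add_apply, Pi.one_apply, h1, ne_eq, not_true_eq_false, iff_false]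
          unfold Int.ModEq at *
          omega
      by_cases h2 : k ≡ m + 2 [ZMOD 4]
      · refine filter_mem_supports hw _ fun i => ?_
        have := hx i
        by_cases hwi : w i = 0
        · simp only [lift, hwi, if_true] at this
          simp only [hwi, ne_eq, not_true_eq_false, iff_false]
          unfold Int.ModEq at *
          omega
        · simp only [lift, hwi, if_false] at this
          simp only [hwi, ne_eq, not_false_eq_true, iff_true]
          unfold Int.ModEq at *
          omega
      · refine filter_mem_supports (Submodule.zero_mem golayCode) _ fun i => ?_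
        simp only [Pi.zero_apply, ne_eq, not_true_eq_false, iff_false]
        have := hx i
        intro hk'
        by_cases hwi : w i = 0 <;> simp only [lift, hwi, if_true, if_false] at this <;>
          (unfold Int.ModEq at *; omega)

/-- The lattice as a subgroup with the standard shape as membership. -/
def shapeGroup : AddSubgroup (GolayPt → ℤ) where
  carrier := {x | Shape x}
  zero_mem' := ⟨0, 0, Submodule.zero_mem _, fun i => by simp [lift], by simp⟩
  add_mem' := by
    rintro x y ⟨m, v, hv, hx, hs⟩ ⟨n, w, hw, hy, ht⟩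
    refine ⟨m + n, v + w, Submodule.add_mem _ hv hw, fun i => ?_, ?_⟩
    · have h1 := hx i
      have h2 := hy i
      simp only [Pi.add_apply, lift_add]
      unfold Int.ModEq at *
      omega
    · simp only [Pi.add_apply, Finset.sum_add_distrib]
      unfold Int.ModEq at *
      omega
  neg_mem' := by
    rintro x ⟨m, w, hw, hx, hs⟩
    refine ⟨-m, w, hw, fun i => ?_, ?_⟩
    · have h1 := hx i
      simp only [Pi.neg_apply]
      unfold Int.ModEq at *
      omega
    · simp only [Pi.neg_apply, Finset.sum_neg_distrib]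
      unfold Int.ModEq at *
      omega

theorem shapeGroup_coe : (shapeGroup : Set (GolayPt → ℤ)) = leechSet :=
  Set.ext fun x => (mem_leechSet_iff x).symm

theorem mem_lattice_iff (x : GolayPt → ℤ) : x ∈ leechLattice ↔ Shape x := by
  rw [leechLattice, ← shapeGroup_coe, AddSubgroup.closure_eq]; rfl

/-- Every lattice vector splits as parity, word and quotient. -/
theorem exists_split {x : GolayPt → ℤ} (hx : x ∈ leechLattice) :
    ∃ (m : ℤ) (w : GolayPt → ZMod 2) (t : GolayPt → ℤ), (m = 0 ∨ m = 1) ∧ w ∈ golayCode ∧
      (∀ i, x i = m + 2 * lift w i + 4 * t i) ∧ (2 : ℤ) ∣ (∑ i, t i) - m := by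
  obtain ⟨n, v, hv, hx, hs⟩ := (mem_lattice_iff x).mp hx
  obtain ⟨m, w, hm, hw, hx', hs'⟩ : ∃ m w, (m = 0 ∨ m = 1) ∧ w ∈ golayCode ∧
      (∀ i, x i ≡ m + 2 * lift w i [ZMOD 4]) ∧ ∑ i, x i ≡ 4 * m [ZMOD 8] := by
    by_cases hn : n % 4 < 2
    · refine ⟨n % 2, v, by omega, hv, fun i => ?_, ?_⟩
      · have := hx i
        unfold Int.ModEq at *
        omega
      · unfold Int.ModEq at *
        omega
    · refine ⟨n % 2, v + 1, by omega, Submodule.add_mem _ hv one_mem_code, fun i => ?_, ?_⟩
      · have := hx i
        rw [lift_add]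
        have e : lift (1 : GolayPt → ZMod 2) i = 1 := by simp [lift]
        rw [e]
        unfold Int.ModEq at *
        omega
      · unfold Int.ModEq at *
        omega
  refine ⟨m, w, fun i => (x i - m - 2 * lift w i) / 4, hm, hw, fun i => ?_, ?_⟩
  · have := hx' i
    beta_reduce
    unfold Int.ModEq at *
    omega
  · beta_reduce
    have e : ∀ i, x i = m + 2 * lift w i + 4 * ((x i - m - 2 * lift w i) / 4) := fun i => by
      have := hx' i
      unfold Int.ModEq at *
      omega
    rw [Finset.sum_congr rfl (fun i _ => e i), Finset.sum_add_distrib, Finset.sum_add_distrib,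
      Finset.sum_const, ← Finset.mul_sum, ← Finset.mul_sum,
      show (Finset.univ : Finset GolayPt).card = 24 from rfl] at hs'
    have := four_dvd_weight hw
    simp only [nsmul_eq_mul] at hs'
    push_cast at hs'
    unfold Int.ModEq at *
    omega

theorem sqNorm_split (m : ℤ) (w : GolayPt → ZMod 2) (t : GolayPt → ℤ) (x : GolayPt → ℤ)
    (hx : ∀ i, x i = m + 2 * lift w i + 4 * t i) :
    sqNorm x = 24 * m ^ 2 + (4 * m + 4) * ∑ i, lift w i + 8 * m * ∑ i, t i +
      16 * ∑ i, (lift w i * t i + t i ^ 2) := by
  have e : ∀ i, x i ^ 2 = m ^ 2 + (4 * m + 4) * lift w i + 8 * m * t i +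
      16 * (lift w i * t i + t i ^ 2) := fun i => by
    rw [hx i]
    by_cases h : w i = 0 <;> simp only [lift, h, if_true, if_false] <;> ring
  rw [sqNorm, Finset.sum_congr rfl (fun i _ => e i), Finset.sum_add_distrib, Finset.sum_add_distrib,
    Finset.sum_add_distrib, ← Finset.mul_sum, ← Finset.mul_sum, ← Finset.mul_sum, Finset.sum_const,
    show (Finset.univ : Finset GolayPt).card = 24 from rfl]
  simp

theorem sixteen_dvd {x : GolayPt → ℤ} (hx : x ∈ leechLattice) : (16 : ℤ) ∣ sqNorm x := by
  obtain ⟨m, w, t, hm, hw, he, ht⟩ := exists_split hx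
  rw [sqNorm_split m w t x he]
  obtain ⟨a, ha⟩ := four_dvd_weight hw
  obtain ⟨b, hb⟩ := ht
  rw [ha, show (∑ i, t i) = m + 2 * b by omega]
  rcases hm with rfl | rfl
  · exact ⟨a + ∑ i, (lift w i * t i + t i ^ 2), by ring⟩
  · exact ⟨2 + 2 * a + b + ∑ i, (lift w i * t i + t i ^ 2), by ring⟩

theorem thirtytwo_le {x : GolayPt → ℤ} (hx : x ∈ leechLattice) (h0 : x ≠ 0) : 32 ≤ sqNorm x := by
  obtain ⟨k, hk⟩ := sixteen_dvd hx
  obtain ⟨m, w, t, hm, hw, he, ht⟩ := exists_split hx
  rcases hm with rfl | rfl
  · by_cases hw0 : w = 0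
    · subst hw0
      have e : ∀ i, x i = 4 * t i := fun i => by simpa [lift] using he i
      have h1 : sqNorm x = 16 * ∑ i, t i ^ 2 := by
        rw [sqNorm, Finset.mul_sum]
        exact Finset.sum_congr rfl fun i _ => by rw [e i]; ring
      obtain ⟨i, hi⟩ : ∃ i, t i ≠ 0 := by
        by_contra hc
        push Not at hc
        exact h0 (funext fun i => by rw [e i, hc i]; rfl)
      have h2 : 1 ≤ ∑ i, t i ^ 2 :=
        le_trans (show 1 ≤ t i ^ 2 by have := sq_pos_of_ne_zero hi; omega)
          (Finset.single_le_sum (fun j _ => sq_nonneg (t j)) (Finset.mem_univ i))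
      have h3 : (2 : ℤ) ∣ (∑ i, t i ^ 2) - ∑ i, t i := by
        rw [← Finset.sum_sub_distrib]
        exact Finset.dvd_sum fun j _ => by
          obtain ⟨c, hc⟩ := Int.even_mul_pred_self (t j)
          exact ⟨c, by rw [sq, show t j * t j - t j = t j * (t j - 1) by ring, hc]; ring⟩
      rw [h1]
      omega
    · have h1 : 4 * ∑ i, lift w i ≤ sqNorm x := by
        rw [sqNorm, Finset.mul_sum]
        refine Finset.sum_le_sum fun i _ => ?_
        rw [he i]
        by_cases h : w i = 0
        · simp only [lift, h, if_true]; nlinarith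
        · simp only [lift, h, if_false]
          have : t i ≤ -1 ∨ 0 ≤ t i := by omega
          rcases this with h' | h' <;> nlinarith
      have := eight_le_weight hw hw0
      omega
  · have h1 : (24 : ℤ) ≤ sqNorm x := by
      rw [sqNorm]
      refine le_trans (le_of_eq ?_) (Finset.sum_le_sum (f := fun _ : GolayPt => (1 : ℤ)) fun i _ => ?_)
      · rw [Finset.sum_const, show (Finset.univ : Finset GolayPt).card = 24 from rfl]; rfl
      · have : x i ≠ 0 := by rw [he i]; omega
        have := sq_pos_of_ne_zero this
        omega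
    omega

theorem perm_mem {σ : Equiv.Perm GolayPt} (hσ : σ ∈ M24) {x : GolayPt → ℤ} (hx : x ∈ leechLattice) :
    (fun i => x (σ i)) ∈ leechLattice := by
  obtain ⟨m, w, hw, he, hs⟩ := (mem_lattice_iff x).mp hx
  refine (mem_lattice_iff _).mpr ⟨m, fun i => w (σ i), forall_of_mem_M24 hσ hw, fun i => ?_, ?_⟩
  · exact he (σ i)
  · rw [Equiv.sum_comp σ x]; exact hs

theorem neg_on_mem {c : Finset GolayPt} (hc : c ∈ supports (golayCode : Set (GolayPt → ZMod 2)))
    {x : GolayPt → ℤ} (hx : x ∈ leechLattice) :
    (fun i => if i ∈ c then -x i else x i) ∈ leechLattice := by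
  obtain ⟨v, hv, rfl⟩ := hc
  obtain ⟨m, w, t, hm, hw, he, ht⟩ := exists_split hx
  have e : ∀ i, (if i ∈ support₂ v then -x i else x i) = x i - 2 * (lift v i * x i) := fun i => by
    by_cases h : v i = 0 <;> simp [support₂, lift, h]
    ring
  refine (mem_lattice_iff _).mpr ⟨m, w + (if m = 0 then 0 else v), ?_, fun i => ?_, ?_⟩
  · exact Submodule.add_mem _ hw (by split_ifs; exacts [Submodule.zero_mem _, hv])
  · beta_reduce
    rw [e, lift_add, he i]
    have hl : lift (if m = 0 then (0 : GolayPt → ZMod 2) else v) i = if m = 0 then 0 else lift v i := by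
      split_ifs <;> simp [lift]
    rw [hl]
    have hv01 : lift v i = 0 ∨ lift v i = 1 := by by_cases h : v i = 0 <;> simp [lift, h]
    have hw01 : lift w i = 0 ∨ lift w i = 1 := by by_cases h : w i = 0 <;> simp [lift, h]
    rcases hm with rfl | rfl <;> rcases hv01 with hv1 | hv1 <;> rcases hw01 with hw1 | hw1 <;>
      simp only [hv1, hw1, if_true, one_ne_zero, if_false] <;> (unfold Int.ModEq; omega)
  · rw [Finset.sum_congr rfl (fun i _ => e i), Finset.sum_sub_distrib, ← Finset.mul_sum]
    obtain ⟨a, ha⟩ := two_dvd_inter hv hw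
    obtain ⟨b, hb⟩ := four_dvd_weight hv
    have hvx : ∑ i, lift v i * x i = m * ∑ i, lift v i + 2 * ∑ i, lift v i * lift w i +
        4 * ∑ i, lift v i * t i := by
      rw [Finset.mul_sum, Finset.mul_sum, Finset.mul_sum, ← Finset.sum_add_distrib, ← Finset.sum_add_distrib]
      exact Finset.sum_congr rfl fun i _ => by rw [he i]; ring
    have hsum : ∑ i, x i ≡ 4 * m [ZMOD 8] := by
      rw [Finset.sum_congr rfl (fun i _ => he i), Finset.sum_add_distrib, Finset.sum_add_distrib,
        Finset.sum_const, ← Finset.mul_sum, ← Finset.mul_sum,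
        show (Finset.univ : Finset GolayPt).card = 24 from rfl]
      have := four_dvd_weight hw
      simp only [nsmul_eq_mul]
      push_cast
      unfold Int.ModEq
      omega
    rw [hvx, ha, hb]
    rcases hm with rfl | rfl <;> (unfold Int.ModEq at *; omega)

/-! ### The index -/

/-- Coordinatewise reduction modulo eight. -/
def red : (GolayPt → ℤ) →+ (GolayPt → ZMod 8) where
  toFun x i := x i
  map_zero' := by funext i; simp
  map_add' x y := by funext i; simp

theorem red_ker : red.ker ≤ leechLattice := by
  intro x hx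
  have h : ∀ i, (8 : ℤ) ∣ x i := fun i => (ZMod.intCast_zmod_eq_zero_iff_dvd (x i) 8).mp (congrFun hx i)
  refine (mem_lattice_iff x).mpr ⟨0, 0, Submodule.zero_mem _, fun i => ?_, ?_⟩
  · have := h i
    simp only [lift, Pi.zero_apply, if_true]
    unfold Int.ModEq
    omega
  · have := Finset.dvd_sum (s := Finset.univ) fun i _ => h i
    unfold Int.ModEq
    omega

/-- Parameters for the image modulo eight. -/
abbrev Param : Type := ZMod 2 × ↥golayCode × (ZMod 23 → ZMod 2)

/-- The quotient coordinates with the parity fixed by the parameters. -/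
def tOf (p : Param) : GolayPt → ZMod 2
  | none => p.1 + ∑ j, p.2.2 j
  | some j => p.2.2 j

/-- The integer vector of a parameter. -/
def vecOf (p : Param) (i : GolayPt) : ℤ := (p.1.val : ℤ) + 2 * lift p.2.1.1 i + 4 * ((tOf p i).val : ℤ)

theorem vecOf_mem (p : Param) : vecOf p ∈ leechLattice := by
  refine (mem_lattice_iff _).mpr ⟨(p.1.val : ℤ), p.2.1.1, p.2.1.2, fun i => ?_, ?_⟩
  · unfold vecOf Int.ModEq; omega
  · have h1 : (2 : ℤ) ∣ (∑ i, ((tOf p i).val : ℤ)) - (p.1.val : ℤ) := by
      refine (ZMod.intCast_zmod_eq_zero_iff_dvd _ 2).mp ?_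
      push_cast
      simp only [ZMod.natCast_val, ZMod.cast_id', id_eq, Fintype.sum_option, tOf]
      have : ∀ a b : ZMod 2, a + b + b - a = 0 := by decide
      exact this _ _
    have h2 := four_dvd_weight p.2.1.2
    simp only [vecOf, Finset.sum_add_distrib, ← Finset.mul_sum, Finset.sum_const,
      show (Finset.univ : Finset GolayPt).card = 24 from rfl, nsmul_eq_mul]
    push_cast
    unfold Int.ModEq
    omega

theorem image_red : (leechLattice.map red : Set (GolayPt → ZMod 8)) = Set.range (fun p => red (vecOf p)) := by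
  ext z
  constructor
  · rintro ⟨x, hx, rfl⟩
    obtain ⟨m, w, t, hm, hw, he, ht⟩ := exists_split hx
    refine ⟨((m : ZMod 2), ⟨w, hw⟩, fun j => (t (some j) : ZMod 2)), funext fun i => ?_⟩
    show ((vecOf _ i : ℤ) : ZMod 8) = (x i : ZMod 8)
    rw [ZMod.intCast_eq_intCast_iff, he i]
    have hm' : (((m : ZMod 2)).val : ℤ) = m := by rcases hm with rfl | rfl <;> decide
    have hti : ∀ i, (2 : ℤ) ∣
        ((tOf ((m : ZMod 2), ⟨w, hw⟩, fun j => (t (some j) : ZMod 2)) i).val : ℤ) - t i := by
      intro i
      refine (ZMod.intCast_zmod_eq_zero_iff_dvd _ 2).mp ?_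
      push_cast
      simp only [ZMod.natCast_val, ZMod.cast_id', id_eq]
      match i with
      | some j => simp [tOf]
      | none =>
        have h2 := (ZMod.intCast_zmod_eq_zero_iff_dvd _ 2).mpr ht
        push_cast at h2
        rw [Fintype.sum_option] at h2
        simp only [tOf]
        revert h2
        generalize (∑ j, ((t (some j) : ℤ) : ZMod 2)) = s
        generalize ((m : ℤ) : ZMod 2) = a
        generalize ((t none : ℤ) : ZMod 2) = b
        revert s a b
        decide
    have h3 := hti i
    simp only [vecOf, hm']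
    unfold Int.ModEq
    omega
  · rintro ⟨p, rfl⟩
    exact ⟨_, vecOf_mem p, rfl⟩

theorem vecOf_inj : Function.Injective (fun p => red (vecOf p)) := by
  rintro ⟨m, ⟨w, hw⟩, t⟩ ⟨m', ⟨w', hw'⟩, t'⟩ h
  have h8 : ∀ i, (8 : ℤ) ∣ vecOf (m', ⟨w', hw'⟩, t') i - vecOf (m, ⟨w, hw⟩, t) i := fun i =>
    Int.modEq_iff_dvd.mp ((ZMod.intCast_eq_intCast_iff _ _ 8).mp (congrFun h i))
  have hv : ∀ (a : ZMod 2), (a.val : ℤ) = 0 ∨ (a.val : ℤ) = 1 := by decide
  have hl : ∀ (u : GolayPt → ZMod 2) i, lift u i = 0 ∨ lift u i = 1 := fun u i => by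
    by_cases h : u i = 0 <;> simp [lift, h]
  have hm : m = m' := by
    have := h8 none
    simp only [vecOf] at this
    apply ZMod.val_injective
    rcases hv m with a | a <;> rcases hv m' with b | b <;> omega
  subst hm
  have hw2 : w = w' := funext fun i => by
    have := h8 i
    simp only [vecOf] at this
    by_cases e : w i = 0 <;> by_cases e' : w' i = 0
    · rw [e, e']
    · simp only [lift, e, e', if_true, if_false] at this; omega
    · simp only [lift, e, e', if_true, if_false] at this; omega
    · revert e e'; generalize w i = a; generalize w' i = b; revert a b; decide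
  subst hw2
  have ht : t = t' := funext fun j => by
    have := h8 (some j)
    simp only [vecOf, tOf] at this
    apply ZMod.val_injective
    rcases hv (t j) with a | a <;> rcases hv (t' j) with b | b <;> omega
  subst ht
  rfl

theorem index_eq : leechLattice.index = 2 ^ 36 := by
  have hsurj : Function.Surjective red := fun z =>
    ⟨fun i => (z i).val, funext fun i => ZMod.natCast_zmod_val (z i) ▸ by simp [red]⟩
  rw [← AddSubgroup.index_map_eq (f := red) leechLattice hsurj red_ker]
  have hcard : Nat.card (leechLattice.map red) = 2 * 4096 * 2 ^ 23 := by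
    show Nat.card ((leechLattice.map red : AddSubgroup _) : Set (GolayPt → ZMod 8)) = _
    rw [image_red, Nat.card_range_of_injective vecOf_inj, Nat.card_prod, Nat.card_prod, card_golayCode,
      Nat.card_fun, Nat.card_zmod, Nat.card_zmod]
    norm_num
  have h := AddSubgroup.index_mul_card (leechLattice.map red)
  have htot : Nat.card (GolayPt → ZMod 8) = 8 ^ 24 := by
    rw [Nat.card_fun, Nat.card_zmod, Nat.card_eq_fintype_card (α := GolayPt), Fintype.card_option, ZMod.card]
  rw [hcard, htot, show (8 : ℕ) ^ 24 = 2 ^ 36 * (2 * 4096 * 2 ^ 23) by norm_num] at h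
  exact Nat.eq_of_mul_eq_mul_right (by positivity) h

/-! ### Generation by the minimal vectors -/

theorem basis_weight : ∀ x ∈ basis, popc x.2 = 8 ∧ x.2 < 2 ^ 24 := by decide +kernel

theorem closure_min : AddSubgroup.closure {x : GolayPt → ℤ | x ∈ leechLattice ∧ sqNorm x = 32} =
    leechLattice := by
  set M := AddSubgroup.closure {x : GolayPt → ℤ | x ∈ leechLattice ∧ sqNorm x = 32}
  refine le_antisymm ((AddSubgroup.closure_le _).mpr fun x hx => hx.1) fun x hx => ?_
  have hmin : ∀ y, y ∈ leechLattice → sqNorm y = 32 → y ∈ M := fun y h1 h2 =>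
    AddSubgroup.subset_closure ⟨h1, h2⟩
  have hsingle : ∀ (i : GolayPt) (a : ℤ), ∑ j, (Pi.single i a : GolayPt → ℤ) j = a := fun i a => by simp
  -- four times an even vector
  have h4 : ∀ t : GolayPt → ℤ, (2 : ℤ) ∣ ∑ i, t i → (fun i => 4 * t i) ∈ M := by
    intro t ht
    have pair : ∀ i j : GolayPt, i ≠ j → ∀ s : ℤ, s = 1 ∨ s = -1 →
        (fun k => 4 * (Pi.single i 1 + Pi.single j s : GolayPt → ℤ) k) ∈ M := by
      intro i j hij s hs
      refine hmin _ ((mem_lattice_iff _).mpr ⟨0, 0, Submodule.zero_mem _, fun k => ?_, ?_⟩) ?_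
      · simp only [lift, Pi.zero_apply, if_true]
        unfold Int.ModEq; omega
      · rw [← Finset.mul_sum, Finset.sum_congr rfl (fun k _ => Pi.add_apply _ _ k), Finset.sum_add_distrib,
          hsingle, hsingle]
        rcases hs with rfl | rfl <;> decide
      · rw [sqNorm]
        have : ∀ k, (4 * (Pi.single i 1 + Pi.single j s : GolayPt → ℤ) k) ^ 2 =
            (Pi.single i 16 + Pi.single j 16 : GolayPt → ℤ) k := by
          intro k
          simp only [Pi.add_apply, Pi.single_apply]
          rcases hs with rfl | rfl <;> by_cases hki : k = i <;> by_cases hkj : k = j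
          all_goals first
            | exact absurd (hki.symm.trans hkj) hij
            | simp [hki, hkj, hij, hij.symm]
        rw [Finset.sum_congr rfl (fun k _ => this k), Finset.sum_congr rfl (fun k _ => Pi.add_apply _ _ k),
          Finset.sum_add_distrib, hsingle, hsingle]
        norm_num
    have htwo : ∀ i : GolayPt, (fun k => 4 * (Pi.single i 2 : GolayPt → ℤ) k) ∈ M := by
      intro i
      obtain ⟨j, hj⟩ := exists_ne i
      have := M.add_mem (pair i j hj.symm 1 (Or.inl rfl)) (pair i j hj.symm (-1) (Or.inr rfl))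
      refine (congrArg (· ∈ M) (funext fun k => ?_)).mp this
      simp only [Pi.add_apply, Pi.single_apply]
      split_ifs <;> ring
    obtain ⟨b, hb⟩ := ht
    have e : (fun k => 4 * t k) = (∑ j : ZMod 23,
        t (some j) • fun k => 4 * (Pi.single (some j) 1 + Pi.single none (-1) : GolayPt → ℤ) k) +
          b • fun k => 4 * (Pi.single none 2 : GolayPt → ℤ) k := by
      funext k
      simp only [Pi.add_apply, Finset.sum_apply, Pi.smul_apply, smul_eq_mul]
      rw [Fintype.sum_option] at hb
      match k with
      | none =>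
        simp only [Pi.single_apply, if_true, reduceCtorEq, if_false]
        rw [show t none = 2 * b - ∑ j, t (some j) by omega, ← Finset.sum_mul]
        ring
      | some i =>
        simp [Pi.single_apply, mul_comm]
    rw [e]
    exact M.add_mem (M.sum_mem fun j _ => M.zsmul_mem (pair _ _ (by simp) (-1) (Or.inr rfl)) _)
      (M.zsmul_mem (htwo none) _)
  -- twice a word
  have h2 : ∀ w ∈ golayCode, ∀ t : GolayPt → ℤ, (2 : ℤ) ∣ ∑ i, t i →
      (fun i => 2 * lift w i + 4 * t i) ∈ M := by
    have step : ∀ l : List (ℕ × ℕ), (∀ x ∈ l, x ∈ basis) → ∀ m : ℕ, ∀ t : GolayPt → ℤ,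
        (2 : ℤ) ∣ ∑ i, t i → (fun i => 2 * lift (ofMask (decodeL l m)) i + 4 * t i) ∈ M := by
      intro l
      induction l with
      | nil =>
        intro _ m t ht
        simpa [decodeL, ofMask_zero, lift] using h4 t ht
      | cons y l ih =>
        intro hl m t ht
        obtain ⟨p, c⟩ := y
        have hcb := hl (p, c) List.mem_cons_self
        have hl' : ∀ x ∈ l, x ∈ basis := fun x hx => hl x (List.mem_cons_of_mem _ hx)
        simp only [decodeL]
        by_cases hp : m.testBit p = true
        · simp only [hp, if_true, ofMask_xor]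
          set v := ofMask c with hv
          set u := ofMask (decodeL l m)
          have hvc : v ∈ golayCode := ofMask_basis hcb
          have huc : u ∈ golayCode := ofMask_decodeL l (fun x hx => ofMask_basis (hl' x hx)) m
          have hw8 : ∑ i, lift v i = 8 := by
            rw [sum_lift, hammingNorm_eq, hv, mask_ofMask (basis_weight _ hcb).2, (basis_weight _ hcb).1]
            rfl
          have hvM : (fun i => 2 * lift v i) ∈ M := by
            refine hmin _ ((mem_lattice_iff _).mpr ⟨0, v, hvc, fun i => ?_, ?_⟩) ?_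
            · beta_reduce; unfold Int.ModEq; omega
            · rw [← Finset.mul_sum, hw8]; decide
            · rw [sqNorm]
              have : ∀ i, (2 * lift v i) ^ 2 = 4 * lift v i := fun i => by
                by_cases h : v i = 0 <;> simp [lift, h]
              rw [Finset.sum_congr rfl (fun i _ => this i), ← Finset.mul_sum, hw8]
              norm_num
          have hrest := ih hl' m (fun i => t i - lift v i * lift u i) (by
            rw [Finset.sum_sub_distrib]
            have := two_dvd_inter hvc huc
            omega)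
          refine (congrArg (· ∈ M) (funext fun i => ?_)).mp (M.add_mem hvM hrest)
          simp only [Pi.add_apply, lift_add]
          ring
        · simp only [hp, if_false, Nat.zero_xor, Bool.false_eq_true]
          exact ih hl' m t ht
    intro w hw t ht
    have h := step basis (fun _ h => h) (mask w) t ht
    rwa [beq_iff_eq.mp (inC_of_mem hw), ofMask_mask] at h
  obtain ⟨m, w, t, hm, hw, he, ht⟩ := exists_split hx
  rcases hm with rfl | rfl
  · rw [show x = fun i => 2 * lift w i + 4 * t i from funext fun i => by rw [he i]; ring]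
    exact h2 w hw t (by omega)
  · have hodd : (fun i : GolayPt => 1 + 4 * (Pi.single none (-1) : GolayPt → ℤ) i) ∈ M := by
      refine hmin _ ((mem_lattice_iff _).mpr ⟨1, 0, Submodule.zero_mem _, fun i => ?_, ?_⟩) ?_
      · simp only [lift, Pi.zero_apply, if_true]
        unfold Int.ModEq; omega
      · rw [Finset.sum_add_distrib, ← Finset.mul_sum, hsingle]; decide
      · decide +kernel
    have hrest := h2 w hw (fun i => t i - (Pi.single none (-1) : GolayPt → ℤ) i) (by
      rw [Finset.sum_sub_distrib, hsingle]; omega)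
    refine (congrArg (· ∈ M) (funext fun i => ?_)).mp (M.add_mem hodd hrest)
    simp only [Pi.add_apply, he i]
    ring

end Cfsg.Agent.Leech
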